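import Groth.Agent.Lib.NodalTensor2.FiniteGen
import Groth.Agent.Lib.Euler.GenericCompare
import Groth.Agent.Lib.SubCurve16.Stalk
import Groth.Agent.Lib.HilbArt9.Main
import Groth.Agent.Lib.OX.Tensor
import Mathlib.LinearAlgebra.TensorProduct.Tower

/-!
# Tensoring with a module which is invertible at finitely many points
-/

set_option autoImplicit false
set_option linter.all false
set_option backward.isDefEq.respectTransparency false
set_option maxHeartbeats 1000000

universe u

open CategoryTheory CategoryTheory.Limits AlgebraicGeometry TopologicalSpace MonoidalCategory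
open GrothLib.Euler (tF)
open GrothLib.QCoh (stalkLin)

noncomputable section

namespace GrothLib.NodalTensor2

variable {X : Scheme.{u}}

/-- Free of rank one at a point. -/
def FreeAt (F : X.Modules) (x : X) : Prop :=
  Nonempty (F.presheaf.stalk x ≃ₗ[X.presheaf.stalk x] X.presheaf.stalk x)

theorem projective_of_freeAt {F : X.Modules} {x : X} (h : FreeAt F x) :
    Module.Projective (X.presheaf.stalk x) (F.presheaf.stalk x) :=
  haveI := Module.Free.of_equiv h.some.symm
  inferInstance

/-- Exactness after tensoring, checked stalkwise. -/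
theorem tensor_shortExact {L : X.Modules} {S : ShortComplex X.Modules} (hS : S.ShortExact)
    (h : ∀ x : X, FreeAt L x ∨ Module.Projective (X.presheaf.stalk x) (S.X₃.presheaf.stalk x)) :
    (S.map ((DCoh.tensorBi (X := X)).flip.obj L)).ShortExact := by
  refine (OX.shortExact_iff _).2 fun x => ?_
  have hx := (OX.shortExact_iff S).1 hS x
  refine ShortComplex.shortExact_of_iso (S.mapNatIso (OX.tensorRightStalkIso x L)).symm ?_
  rcases h x with hL | h3
  · haveI : Module.Free (X.presheaf.stalk x) ((OX.stalk x).obj L) := Module.Free.of_equiv hL.some.symm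
    have : PreservesFiniteColimits (tensorRight ((OX.stalk x).obj L)) :=
      preservesFiniteColimits_of_natIso (BraidedCategory.tensorLeftIsoTensorRight _)
    exact hx.map_of_exact (tensorRight ((OX.stalk x).obj L))
  · haveI : Module.Projective (X.presheaf.stalk x) (S.map (OX.stalk x)).X₃ := h3
    haveI : Projective (S.map (OX.stalk x)).X₃ := ModuleCat.projective_of_categoryTheory_projective _
    exact ((hx.splittingOfProjective).map (tensorRight ((OX.stalk x).obj L))).shortExact

/-- The stalk of a twist. -/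
theorem nonempty_stalk_tF {L : X.Modules} {x : X} (hL : FreeAt L x) (N : X.Modules) :
    Nonempty (((tF L).obj N).presheaf.stalk x ≃ₗ[X.presheaf.stalk x] N.presheaf.stalk x) :=
  ⟨((OX.tensorRightStalkIso x L).app N).toLinearEquiv.trans
    ((TensorProduct.congr (LinearEquiv.refl _ _) hL.some).trans (TensorProduct.rid _ _))⟩

theorem support_tF_subset' (L N : X.Modules) : CohB1.support ((tF L).obj N) ⊆ CohB1.support N := by
  intro x hx
  by_contra h
  haveI : Subsingleton ((OX.stalk x).obj N) := QCoh.stalk_subsingleton_of_notMem h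
  exact hx (@Equiv.subsingleton _ _ ((OX.tensorRightStalkIso x L).app N).toLinearEquiv.toEquiv
    (show Subsingleton (TensorProduct (X.presheaf.stalk x) ((OX.stalk x).obj N) ((OX.stalk x).obj L)) from inferInstance))

variable (k : Type u) [Field k] [X.Over (Spec (CommRingCat.of k))] [IsProper (X ↘ Spec (CommRingCat.of k))]

/-- A finitely supported module is unchanged in length by a twist which is free on the support. -/
theorem euler_tF_of_finite_support {L N : X.Modules} (hfin : (CohB1.support N).Finite)
    (hcl : ∀ x ∈ CohB1.support N, IsClosed ({x} : Set X)) (hL : ∀ x ∈ CohB1.support N, FreeAt L x) :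
    Curv2.euler k X ((tF L).obj N) = Curv2.euler k X N := by
  classical
  set N' := (tF L).obj N
  have hsub : CohB1.support N' ⊆ CohB1.support N := support_tF_subset' L N
  have hfin' := hfin.subset hsub
  have hcl' : ∀ x ∈ CohB1.support N', IsClosed ({x} : Set X) := fun x hx => hcl x (hsub hx)
  rw [Euler.euler_eq_of_finite_support k N' hfin' hcl', Euler.euler_eq_of_finite_support k N hfin hcl]
  have ψ : ∀ x : CohB1.support N, N'.presheaf.stalk (x : X) ≃ₗ[X.presheaf.stalk (x : X)] N.presheaf.stalk (x : X) :=
    fun x => (nonempty_stalk_tF (hL x x.2) N).some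
  let gN := AddEquiv.ofBijective
    (AddMonoidHom.mk' (fun (s : Γ(N, ⊤)) (x : CohB1.support N) =>
      (N.presheaf.germ ⊤ (x : X) trivial s : N.presheaf.stalk (x : X))) fun s t => funext fun x => map_add _ s t)
    (Euler.bijective_germs N hfin hcl)
  let φ : Coh.HH X N' 0 → Coh.HH X N 0 := fun h =>
    (ProjCoh.H0top N).symm (gN.symm fun x => ψ x (N'.presheaf.germ ⊤ (x : X) trivial (ProjCoh.H0top N' h)))
  have hφ : ∀ h (x : CohB1.support N), N.presheaf.germ ⊤ (x : X) trivial (ProjCoh.H0top N (φ h)) =
      ψ x (N'.presheaf.germ ⊤ (x : X) trivial (ProjCoh.H0top N' h)) := by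
    intro h x
    simp only [φ, AddEquiv.apply_symm_apply]
    exact congrFun (gN.apply_symm_apply _) x
  have hext : ∀ (u v : Coh.HH X N 0),
      (∀ x : CohB1.support N, N.presheaf.germ ⊤ (x : X) trivial (ProjCoh.H0top N u) =
        N.presheaf.germ ⊤ (x : X) trivial (ProjCoh.H0top N v)) → u = v :=
    fun u v h => (ProjCoh.H0top N).injective (gN.injective (funext h))
  let Φ : Coh.HH X N' 0 →ₗ[k] Coh.HH X N 0 :=
    { toFun := φ
      map_add' := fun a b => hext _ _ fun x => by simp only [hφ, map_add]
      map_smul' := fun a b => hext _ _ fun x => by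
        rw [hφ, Euler.germ_H0top_smul, map_smul, RingHom.id_apply, Euler.germ_H0top_smul, hφ] }
  have hbij : Function.Bijective Φ := by
    refine ⟨(injective_iff_map_eq_zero Φ).2 fun h h0 => ?_, fun v => ?_⟩
    · apply (ProjCoh.H0top N').injective
      refine (QCoh.section_eq_zero_of_germ N' _ fun x _ => ?_).trans (map_zero _).symm
      by_cases hx : x ∈ CohB1.support N'
      · refine (ψ ⟨x, hsub hx⟩).injective ?_
        have h2 := hφ h ⟨x, hsub hx⟩
        rw [show φ h = 0 from h0, map_zero, map_zero] at h2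
        rw [map_zero]; exact h2.symm
      · exact @Subsingleton.elim _ (QCoh.stalk_subsingleton_of_notMem hx) _ _
    · have heq : ∀ x, x ∈ CohB1.support N → x ∈ CohB1.support N' := fun x hx => fun hsing =>
        hx (ψ ⟨x, hx⟩).symm.toEquiv.subsingleton
      obtain ⟨s, hs⟩ := (Euler.bijective_germs N' hfin' hcl').2
        fun x => (ψ ⟨x, hsub x.2⟩).symm (N.presheaf.germ ⊤ (x : X) trivial (ProjCoh.H0top N v))
      refine ⟨(ProjCoh.H0top N').symm s, hext _ _ fun x => ?_⟩
      refine (hφ _ x).trans ?_
      rw [AddEquiv.apply_symm_apply, show N'.presheaf.germ ⊤ (x : X) trivial s = _ from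
        congrFun hs ⟨x, heq x x.2⟩, LinearEquiv.apply_symm_apply]
  exact_mod_cast (LinearEquiv.ofBijective Φ hbij).finrank_eq

/-- Twisting does not change the difference along a map which is bijective on `U`. -/
theorem euler_tF_sub {L P Q : X.Modules} (hLc : Coh.IsCoh L) (hP : Coh.IsCoh P) (hQ : Coh.IsCoh Q) (f : P ⟶ Q)
    (U : X.Opens) (hf : ∀ x ∈ U, Function.Bijective (stalkLin f x)) (hQU : ∀ x ∈ U, FreeAt Q x)
    (hfin : ((U : Set X)ᶜ).Finite) (hcl : ∀ x ∉ U, IsClosed ({x} : Set X)) (hL : ∀ x ∉ U, FreeAt L x)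
    (htc : ∀ (N : X.Modules), Coh.IsCoh N → Coh.IsCoh ((tF L).obj N)) :
    Curv2.euler k X ((tF L).obj Q) - Curv2.euler k X Q = Curv2.euler k X ((tF L).obj P) - Curv2.euler k X P := by
  haveI := Euler.isNoetherian_of_proper (X := X) k
  have hK := QCoh.isCoh_kernel f hP hQ
  have hC := QCoh.isCoh_cokernel f hP hQ
  have hKs : CohB1.support (kernel f) ⊆ (U : Set X)ᶜ := fun x hx hxU => by
    refine hx (subsingleton_of_forall_eq 0 fun v => QCoh.stalkLin_injective (kernel.ι f) _ ((hf x hxU).1 ?_))
    rw [← QCoh.stalkLin_comp, kernel.condition, map_zero, map_zero]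
    exact LinearMap.congr_fun (congrArg ModuleCat.Hom.hom ((OX.stalk x).map_zero (kernel f) Q)) v
  have hCs : CohB1.support (cokernel f) ⊆ (U : Set X)ᶜ := fun x hx hxU =>
    QCoh.notMem_support_cokernel_of_surjective f (hf x hxU).2 hx
  obtain ⟨I, a, b, w₁, w₂, hS₁, hS₂, ⟨eI⟩⟩ := HilbArt9.exists_split f
  have hI : Coh.IsCoh I := QCoh.isCoh_of_iso eI (QCoh.isCoh_cokernel _ hK hP)
  have hexact : ∀ (x : X) (S : ShortComplex X.Modules), S.ShortExact →
      Function.Exact (stalkLin S.f x) (stalkLin S.g x) := fun x S hS =>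
    (ShortComplex.ShortExact.moduleCat_exact_iff_function_exact _).1 ((OX.exact_iff S).1 hS.exact x)
  have hbI : ∀ x ∈ U, Function.Bijective (stalkLin b x) := fun x hx => by
    haveI : Mono b := hS₂.mono_f
    refine ⟨QCoh.stalkLin_injective b x, fun q => (hexact x _ hS₂ q).1 ?_⟩
    haveI := QCoh.stalk_subsingleton_of_notMem fun h => hCs h hx
    exact Subsingleton.elim _ _
  have h1 : ∀ x : X, FreeAt L x ∨ Module.Projective (X.presheaf.stalk x) (I.presheaf.stalk x) := fun x => by
    by_cases hx : x ∈ U
    · exact Or.inr (projective_of_freeAt ⟨(LinearEquiv.ofBijective _ (hbI x hx)).trans (hQU x hx).some⟩)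
    · exact Or.inl (hL x hx)
  have h2 : ∀ x : X, FreeAt L x ∨ Module.Projective (X.presheaf.stalk x) ((cokernel f).presheaf.stalk x) := fun x => by
    by_cases hx : x ∈ U
    · haveI := QCoh.stalk_subsingleton_of_notMem fun h => hCs h hx
      exact Or.inr inferInstance
    · exact Or.inl (hL x hx)
  have d1 := Euler.euler_additive k hS₁ hK hP hI
  have d2 := Euler.euler_additive k hS₂ hI hQ hC
  have t1 := @Euler.euler_additive X k _ _ _ _ (tensor_shortExact hS₁ h1)
  simp only [ShortComplex.map_X₁, ShortComplex.map_X₂, ShortComplex.map_X₃] at t1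
  have t1' := t1 (htc _ hK) (htc _ hP) (htc _ hI)
  have t2 := @Euler.euler_additive X k _ _ _ _ (tensor_shortExact hS₂ h2)
  simp only [ShortComplex.map_X₁, ShortComplex.map_X₂, ShortComplex.map_X₃] at t2
  have t2' := t2 (htc _ hI) (htc _ hQ) (htc _ hC)
  have k1 := euler_tF_of_finite_support k (hfin.subset hKs) (fun x hx => hcl x (hKs hx)) fun x hx => hL x (hKs hx)
  have k2 := euler_tF_of_finite_support k (hfin.subset hCs) (fun x hx => hcl x (hCs hx)) fun x hx => hL x (hCs hx)
  dsimp only at d1 d2 t1' t2'
  linarith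

end GrothLib.NodalTensor2
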