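import Groth.Agent.Lib.InvExt.FiniteFibre

/-!
# A generator near finitely many points at which a module is invertible
-/

set_option autoImplicit false
set_option linter.all false

universe u

open CategoryTheory Limits AlgebraicGeometry Opposite TopologicalSpace

namespace GrothLib.NodalTensor2

open GrothLib.InvExt

variable {X : Scheme.{u}}

/-- A module with local generators has a generator near any finite antichain in an affine open. -/
theorem exists_gen_of_finite {M : X.Modules} [M.IsQuasicoherent] {U : X.Opens} (hU : IsAffineOpen U)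
    (S : Set X) (hS : S.Finite) (hSU : S ⊆ U) (hanti : ∀ a ∈ S, ∀ b ∈ S, a ⤳ b → a = b)
    (hM : ∀ a ∈ S, ∃ (V : X.Opens) (e : Γ(M, V)), a ∈ V ∧ IsGen M V e) :
    ∃ (W : X.Opens) (s : Γ(M, W)), S ⊆ W ∧ IsGen M W s := by
  classical
  haveI := hS.fintype
  -- generators on basic opens
  have hloc : ∀ a : S, ∃ (f : Γ(X, U)) (e : Γ(M, X.basicOpen f)), (a : X) ∈ X.basicOpen f ∧
      IsGen M (X.basicOpen f) e := fun a => by
    obtain ⟨V, e, haV, he⟩ := hM (a : X) a.2
    obtain ⟨f, hfV, haf⟩ := hU.exists_basicOpen_le ⟨(a : X), haV⟩ (hSU a.2)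
    exact ⟨f, mres M hfV e, haf, he.restrict hfV⟩
  choose f e hmem he using hloc
  choose n t ht using fun a => Cohom.exists_pow_smul_eq_map hU M (f a) (e a)
  -- separating functions
  have hsep : ∀ a b : S, ∃ g : Γ(X, U), (a : X) ∈ X.basicOpen g ∧ (b ≠ a → (b : X) ∉ X.basicOpen g) := by
    intro a b
    by_cases hab : b = a
    · exact ⟨1, by rw [Scheme.basicOpen_of_isUnit _ isUnit_one]; exact hSU a.2, fun h => absurd hab h⟩
    · have : ¬ (b : X) ⤳ (a : X) := fun h => hab (Subtype.ext (hanti _ b.2 _ a.2 h))
      rw [specializes_iff_forall_open] at this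
      push Not at this
      obtain ⟨O, hO, haO, hbO⟩ := this
      obtain ⟨g, hgO, hag⟩ := hU.exists_basicOpen_le (V := ⟨O, hO⟩) ⟨(a : X), haO⟩ (hSU a.2)
      exact ⟨g, hag, fun _ h => hbO (hgO h)⟩
  choose g hg1 hg2 using hsep
  let w : S → Γ(X, U) := fun a => ∏ b, g a b
  let s : Γ(M, U) := ∑ a, w a • t a
  have key : ∀ a : S, ∃ W : X.Opens, ∃ h : W ≤ U, (a : X) ∈ W ∧ IsGen M W (mres M h s) := by
    intro a
    have hle := X.basicOpen_le (f a)
    choose c hc using fun b : S => (he a).exists_smul_eq le_rfl (mres M hle (t b))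
    simp only [mres_self] at hc
    let C : Γ(X, X.basicOpen (f a)) := ∑ b, fres X hle (w b) * c b
    have hres : mres M hle s = C • e a := by
      simp only [s, C, Finset.sum_smul, mres, map_sum]
      refine Finset.sum_congr rfl fun b _ => ?_
      change mres M hle (w b • t b) = _
      rw [mres_smul, hc b, smul_smul]
    -- the coefficient is a unit at `a`
    let ev := (X.evaluation (X.basicOpen (f a)) (a : X) (hmem a)).hom
    have hev : ev C ≠ 0 := by
      have hca : c a = fres X hle (f a) ^ n a := by
        refine (he a).smul_left_injective le_rfl ?_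
        rw [mres_self, ← hc a]
        exact ht a
      have hzero : ∀ b, b ≠ a → ev (fres X hle (w b)) = 0 := fun b hb => by
        simp only [w, map_prod, fres]
        refine Finset.prod_eq_zero (Finset.mem_univ a) ?_
        refine (Scheme.evaluation_eq_zero_iff_notMem_basicOpen ..).mpr fun h => hg2 b a (Ne.symm hb) ?_
        rw [Scheme.basicOpen_res] at h
        exact h.2
      have hw : ev (fres X hle (w a)) ≠ 0 := by
        simp only [w, map_prod, fres]
        refine Finset.prod_ne_zero_iff.mpr fun b _ => ?_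
        refine (Scheme.evaluation_ne_zero_iff_mem_basicOpen ..).mpr ?_
        rw [Scheme.basicOpen_res]
        exact ⟨hmem a, hg1 a b⟩
      simp only [C, map_sum, map_mul]
      rw [Finset.sum_eq_single a (fun b _ hb => by rw [hzero b hb, zero_mul]) (fun h => absurd (Finset.mem_univ a) h),
        hca, map_pow]
      refine mul_ne_zero hw (pow_ne_zero _ ((Scheme.evaluation_ne_zero_iff_mem_basicOpen ..).mpr ?_))
      show (a : X) ∈ X.basicOpen (X.presheaf.map (homOfLE hle).op (f a))
      rw [Scheme.basicOpen_res]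
      exact ⟨hmem a, hmem a⟩
    refine ⟨X.basicOpen C, (X.basicOpen_le C).trans hle, (Scheme.evaluation_ne_zero_iff_mem_basicOpen ..).mp hev, ?_⟩
    rw [← mres_mres M hle (X.basicOpen_le C), hres, mres_smul]
    exact ((he a).restrict _).smul_unit (isUnit_res_of_le_basicOpen _ C le_rfl)
  choose W hW haW hgen using key
  refine ⟨⨆ a, W a, mres M (iSup_le hW) s, fun a ha => Opens.mem_iSup.mpr ⟨⟨a, ha⟩, haW _⟩, ?_⟩
  refine isGen_of_cover W (fun a => le_iSup W a) le_rfl fun a => ?_
  rw [mres_mres]
  exact hgen a

end GrothLib.NodalTensor2
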