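import Groth.Agent.Lib.NodalTensor2.Basic
import Groth.Agent.Lib.FinAff13.Main
import Groth.Agent.Lib.TensorPerf20.FlatKernel
import Groth.Agent.Lib.TFCurve11.Basic
import Groth.Agent.Lib.InvExt.Gen

/-!
# Degrees of tensor products of modules invertible at complementary points
-/

set_option autoImplicit false
set_option linter.all false
set_option backward.isDefEq.respectTransparency false
set_option maxHeartbeats 1000000

universe u

open CategoryTheory CategoryTheory.Limits AlgebraicGeometry TopologicalSpace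
open GrothLib.Euler (tF)
open GrothLib.InvExt (IsGen)

noncomputable section

namespace GrothLib.NodalTensor2

variable {X : Scheme.{u}}

theorem freeAt_of_gen {F : X.Modules} {V : X.Opens} {e : Γ(F, V)} (he : IsGen F V e) {x : X} (hx : x ∈ V) :
    FreeAt F x := by
  obtain ⟨b⟩ := Euler.stalk_basis_of_frame ((InvExt.isGen_iff_isFrame (fun _ : Fin 1 => e)).2 he) hx
  exact ⟨b.equivFun.trans (LinearEquiv.funUnique (Fin 1) _ _)⟩

theorem exists_gen_of_freeAt [IsLocallyNoetherian X] {F : X.Modules} (hF : Coh.IsCoh F) {x : X} (h : FreeAt F x) :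
    ∃ (V : X.Opens) (e : Γ(F, V)), x ∈ V ∧ IsGen F V e := by
  obtain ⟨D, e, hxD, he⟩ := Euler.exists_frame_of_stalk_basis hF
    (Module.Basis.ofEquivFun (h.some.trans (LinearEquiv.funUnique (Fin 1) _ _).symm))
  exact ⟨D, e 0, hxD, (InvExt.isGen_iff_isFrame e).1 he⟩

theorem freeAt_of_restrict {F : X.Modules} {U : X.Opens} (φ : F.restrict U.ι ≅ Coh.structureModule (↑U : Scheme.{u}))
    {x : X} (hx : x ∈ U) : FreeAt F x := by
  obtain ⟨e, he⟩ := FinCov.exists_frame_of_iso (φ ≪≫ (coproductUniqueIso fun _ : Fin 1 => Coh.structureModule (↑U : Scheme.{u})).symm)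
  refine freeAt_of_gen ((InvExt.isGen_iff_isFrame e).1 he) ?_
  rw [Scheme.Opens.ι_image_top]
  exact hx

theorem freeAt_generic [IsReduced X] {F : X.Modules} {η : X} (hη : η ∈ genericPoints (X : Type u))
    (hr : Module.finrank (X.presheaf.stalk η) (F.presheaf.stalk η) = 1) : FreeAt F η := by
  have hmax : ∀ z, z ⤳ η → z = η := fun z hz =>
    (hz.antisymm (specializes_iff_mem_closure.2 ((hη.2 isIrreducible_singleton.closure
      (closure_minimal (Set.singleton_subset_iff.2 (specializes_iff_mem_closure.1 hz)) isClosed_closure))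
        (subset_closure rfl)))).eq
  letI : Field (X.presheaf.stalk η) := (TFCurve11.isField_stalk_of_maximal η hmax).toField
  haveI : Module.Finite (X.presheaf.stalk η) (F.presheaf.stalk η) := Module.finite_of_finrank_eq_succ hr
  exact ⟨LinearEquiv.ofFinrankEq _ _ (hr.trans (Module.finrank_self _).symm)⟩

variable (k : Type u) [Field k] [X.Over (Spec (CommRingCat.of k))] [IsProper (X ↘ Spec (CommRingCat.of k))]

include k in
theorem euler_tensor [IsReduced X] (hd : topologicalKrullDim X ≤ 1) {L M : X.Modules} (hL : Coh.IsCoh L)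
    (hM : Coh.IsCoh M) (hLη : ∀ η ∈ genericPoints (X : Type u), FreeAt L η)
    (hMη : ∀ η ∈ genericPoints (X : Type u), FreeAt M η) (hLM : ∀ x : X, FreeAt L x ∨ FreeAt M x) :
    Curv2.euler k X ((tF L).obj M) + Curv2.euler k X (Coh.structureModule X) =
      Curv2.euler k X L + Curv2.euler k X M := by
  classical
  haveI := Euler.isNoetherian_of_proper (X := X) k
  haveI : X.IsSeparated := by
    constructor
    rw [← terminal.comp_from (X ↘ Spec (CommRingCat.of k))]
    infer_instance
  let G : X.Opens := ⟨{x | FreeAt L x}, isOpen_iff_forall_mem_open.2 fun x hx => by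
    obtain ⟨V, e, hxV, he⟩ := exists_gen_of_freeAt hL hx
    exact ⟨V, fun y hy => freeAt_of_gen he hy, V.2, hxV⟩⟩
  have hG : genericPoints (X : Type u) ⊆ G := fun η hη => hLη η hη
  obtain ⟨hBfin, hBcl⟩ := Euler.finite_closed_of_disjoint k hd hG
  have hgfin : (genericPoints (X : Type u)).Finite :=
    genericPoints.finite NoetherianSpace.finite_irreducibleComponents
  let T : Set X := (G : Set X)ᶜ ∪ {η ∈ genericPoints (X : Type u) | ∀ b ∈ (G : Set X)ᶜ, ¬ η ⤳ b}
  have hTfin : T.Finite := hBfin.union (hgfin.subset fun η hη => hη.1)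
  have hdim : ∀ y ∈ T, ringKrullDim (X.presheaf.stalk y) ≤ 1 := fun y _ => by
    refine le_trans ?_ hd
    rw [← PrimeSpectrum.topologicalKrullDim_eq_ringKrullDim]
    exact (X.fromSpecStalk y).isEmbedding.isInducing.topologicalKrullDim_le
  obtain ⟨V, hV, hTV⟩ := FinAff13.exists_affine_of_finite hTfin hdim
  have hanti : ∀ a ∈ T, ∀ b ∈ T, a ⤳ b → a = b := by
    rintro a (ha | ⟨ha, ha'⟩) b hb hab
    · have := (hBcl a ha).closure_eq
      exact (this ▸ specializes_iff_mem_closure.1 hab : b ∈ ({a} : Set X)).symm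
    · rcases hb with hb | ⟨hb, -⟩
      · exact absurd hab (ha' b hb)
      · exact (hab.antisymm (specializes_iff_mem_closure.2 ((hb.2 isIrreducible_singleton.closure
          (closure_minimal (Set.singleton_subset_iff.2 (specializes_iff_mem_closure.1 hab)) isClosed_closure))
            (subset_closure rfl)))).eq
  haveI := hM.1
  obtain ⟨W, s, hTW, hs⟩ := exists_gen_of_finite hV T hTfin hTV hanti fun a ha => exists_gen_of_freeAt hM (by
    rcases ha with ha | ⟨ha, -⟩
    · exact (hLM a).resolve_left ha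
    · exact hMη a ha)
  have hgW : genericPoints (X : Type u) ⊆ W := fun η hη => by
    by_cases h : ∃ b ∈ (G : Set X)ᶜ, η ⤳ b
    · obtain ⟨b, hb, hηb⟩ := h
      exact hηb.mem_open W.2 (hTW (Or.inl hb))
    · push Not at h
      exact hTW (Or.inr ⟨hη, h⟩)
  have hout : ∀ x ∉ W, FreeAt L x := fun x hx => by
    by_contra h
    exact hx (hTW (Or.inl h))
  obtain ⟨hfin, hcl⟩ := Euler.finite_closed_of_disjoint k hd hgW
  obtain ⟨φ⟩ := InvExt.exists_iso_of_gen hs
  have hO : Coh.IsCoh (Coh.structureModule X) := Euler.isCoh_of_isInvertible Euler.isInvertible_structure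
  have hOfree : ∀ x : X, FreeAt (Coh.structureModule X) x := fun x =>
    SubCurve16.nonempty_stalkEquiv Euler.isInvertible_structure x
  obtain ⟨H, p, q, hH, hpq⟩ := Euler.exists_comparison hM hO W
    (φ ≪≫ (Scheme.Modules.restrictUnitIso W.ι).symm)
  have htc : ∀ N : X.Modules, Coh.IsCoh N → Coh.IsCoh ((tF L).obj N) := fun N hN => TensorPerf20.isCoh_tensor hN hL
  have e1 := euler_tF_sub k hL hH hM p W (fun x hx => (hpq x hx).1) (fun x hx => freeAt_of_gen hs hx) hfin
    (fun x hx => hcl x hx) hout htc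
  have e2 := euler_tF_sub k hL hH hO q W (fun x hx => (hpq x hx).2) (fun x _ => hOfree x) hfin
    (fun x hx => hcl x hx) hout htc
  have e3 : Curv2.euler k X ((tF L).obj (Coh.structureModule X)) = Curv2.euler k X L :=
    Euler.euler_of_iso k (OX.tensorUnitLeftIso L)
  linarith

end GrothLib.NodalTensor2
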